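import Groth.Agent.Lib.TorFlatPres27.Basic
import Groth.Agent.Lib.TorBal27.Balance

/-!
# `Tor₂` and the homology of a two-term flat complex
-/

set_option autoImplicit false
universe u

open CategoryTheory TensorProduct
open Groth.Agent.TorBal27 (lT_rT)

noncomputable section

namespace Groth.Agent.TorFlatPres27

variable {A : Type u} [CommRing A] {P₁ P₀ : Type u} [AddCommGroup P₁] [Module A P₁] [AddCommGroup P₀] [Module A P₀]
  [Module.Flat A P₁] [Module.Flat A P₀] (d : P₁ →ₗ[A] P₀)

omit [Module.Flat A P₁] [Module.Flat A P₀] in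
theorem exact_rangeRestrict : Function.Exact (LinearMap.ker d).subtype d.rangeRestrict := fun x =>
  ⟨fun hx => ⟨⟨x, congrArg Subtype.val hx⟩, rfl⟩, fun ⟨y, hy⟩ => Subtype.ext (hy ▸ y.2)⟩

theorem nonempty_ker_equiv_tor_two (N : Type u) [AddCommGroup N] [Module A N] :
    Nonempty (LinearMap.ker ((LinearMap.ker d).subtype.rTensor N) ≃ₗ[A]
      DRing.Tor A 2 (P₀ ⧸ LinearMap.range d) N) := by
  let N₀ := ModuleCat.of A N
  let N₁ := (TorBal27.Kp A 1).obj N₀
  let j₀ : N₁ →ₗ[A] (TorBal27.F A).obj N₀ := TorBal27.inc N₀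
  haveI : Module.Flat A ((TorBal27.F A).obj N₀) := inferInstanceAs (Module.Flat A (N →₀ A))
  haveI : Module.Flat A ((TorBal27.F A).obj N₁) := inferInstanceAs (Module.Flat A ((N₁ : Type u) →₀ A))
  obtain ⟨s₁⟩ := nonempty_sigma (K := ↥(LinearMap.ker d)) (F := P₁) (M := ↥(LinearMap.range d))
    (L := ↥((TorBal27.Kp A 1).obj N₀)) (P := ↥((TorBal27.F A).obj N₀)) (N := N)
    (LinearMap.ker d).subtype Subtype.val_injective d.rangeRestrict (exact_rangeRestrict d) d.surjective_rangeRestrict
    j₀ (TorBal27.inc_injective N₀) (TorBal27.ev N₀) (TorBal27.exact_inc_ev N₀) (TorBal27.ev_surjective N₀)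
  obtain ⟨s₂⟩ := nonempty_sigma (K := ↥(LinearMap.range d)) (F := P₀) (M := P₀ ⧸ LinearMap.range d)
    (L := ↥((TorBal27.K A).obj N₁)) (P := ↥((TorBal27.F A).obj N₁)) (N := ↥N₁)
    (LinearMap.range d).subtype Subtype.val_injective (LinearMap.range d).mkQ
    (LinearMap.exact_subtype_mkQ _) (Submodule.mkQ_surjective _)
    (TorBal27.inc N₁) (TorBal27.inc_injective N₁) (TorBal27.ev N₁) (TorBal27.exact_inc_ev N₁) (TorBal27.ev_surjective N₁)
  have hk : LinearMap.ker ((LinearMap.range d).subtype.rTensor N₁) =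
      LinearMap.ker (j₀.lTensor ↥(LinearMap.range d)) := by
    ext z
    rw [LinearMap.mem_ker, LinearMap.mem_ker]
    constructor
    · intro hz
      refine Module.Flat.rTensor_preserves_injective_linearMap (M := ↥((TorBal27.F A).obj N₀))
        (LinearMap.range d).subtype Subtype.val_injective ?_
      rw [map_zero, ← lT_rT, hz, map_zero]
    · intro hz
      refine Module.Flat.lTensor_preserves_injective_linearMap (M := P₀) j₀ (TorBal27.inc_injective N₀) ?_
      rw [map_zero, lT_rT, hz, map_zero]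
  let e₂ := ((TorBal27.torSuccIso A 1).app (ModuleCat.of A (P₀ ⧸ LinearMap.range d), N₀)).toLinearEquiv
  exact ⟨s₁.trans ((LinearEquiv.ofEq _ _ hk.symm).trans (s₂.trans e₂.symm))⟩

theorem range_le_ker (N : Type u) [AddCommGroup N] [Module A N] :
    LinearMap.range ((LinearMap.ker d).subtype.rTensor N) ≤ LinearMap.ker (d.rTensor N) := by
  rintro _ ⟨z, rfl⟩
  rw [LinearMap.mem_ker, ← LinearMap.rTensor_comp_apply,
    show d ∘ₗ (LinearMap.ker d).subtype = 0 from LinearMap.ext fun x => x.2, LinearMap.rTensor_zero, LinearMap.zero_apply]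

omit [Module.Flat A P₁] [Module.Flat A P₀] in
theorem nonempty_quotient_restrict {Z V W U : Type u} [AddCommGroup Z] [Module A Z] [AddCommGroup V] [Module A V]
    [AddCommGroup W] [Module A W] [AddCommGroup U] [Module A U] (α : Z →ₗ[A] V) (g : V →ₗ[A] W)
    (hg : Function.Surjective g) (hex : Function.Exact α g) (ι : W →ₗ[A] U) (D : V →ₗ[A] U) (hD : ι ∘ₗ g = D) :
    Nonempty ((↥(LinearMap.ker D) ⧸ Submodule.comap (LinearMap.ker D).subtype (LinearMap.range α)) ≃ₗ[A]
      LinearMap.ker ι) := by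
  subst hD
  let f : LinearMap.ker (ι ∘ₗ g) →ₗ[A] LinearMap.ker ι := g.restrict fun _ hx => hx
  have hf : Function.Surjective f := fun y => by
    obtain ⟨x, hx⟩ := hg y.1
    exact ⟨⟨x, (congrArg ι hx).trans y.2⟩, Subtype.ext hx⟩
  have hker : Submodule.comap (LinearMap.ker (ι ∘ₗ g)).subtype (LinearMap.range α) = LinearMap.ker f := by
    ext x
    exact (hex x.1).symm.trans (Subtype.ext_iff (a1 := f x) (a2 := 0)).symm
  exact ⟨(Submodule.quotEquivOfEq _ _ hker).trans (f.quotKerEquivOfSurjective hf)⟩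

omit [Module.Flat A P₁] in
theorem nonempty_quotient_equiv_tor_one (N : Type u) [AddCommGroup N] [Module A N] :
    Nonempty ((↥(LinearMap.ker (d.rTensor N)) ⧸ Submodule.comap (LinearMap.ker (d.rTensor N)).subtype
        (LinearMap.range ((LinearMap.ker d).subtype.rTensor N))) ≃ₗ[A]
      DRing.Tor A 1 (P₀ ⧸ LinearMap.range d) N) := by
  obtain ⟨e⟩ := nonempty_tor_one (LinearMap.range d).subtype Subtype.val_injective (LinearMap.range d).mkQ
    (LinearMap.exact_subtype_mkQ _) (Submodule.mkQ_surjective _) N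
  obtain ⟨f⟩ := nonempty_quotient_restrict ((LinearMap.ker d).subtype.rTensor N) (d.rangeRestrict.rTensor N)
    (LinearMap.rTensor_surjective N d.surjective_rangeRestrict)
    (rTensor_exact N (exact_rangeRestrict d) d.surjective_rangeRestrict)
    ((LinearMap.range d).subtype.rTensor N) (d.rTensor N) (LinearMap.rTensor_comp N _ _).symm
  exact ⟨f.trans e.symm⟩

end Groth.Agent.TorFlatPres27
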